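import Mathlib.RingTheory.Unramified.LocalRing
import Mathlib.RingTheory.Etale.Kaehler
import Mathlib.RingTheory.Etale.Field
import Mathlib.RingTheory.DiscreteValuationRing.Basic
import Mathlib.RingTheory.LocalRing.ResidueField.Basic
import Mathlib.LinearAlgebra.TensorProduct.Quotient

/-!
# Node (RAM): derivations and tame ramification

`R → S` local rings, `S` with principal maximal ideal `(π)`, residue field of `S` formally
unramified over `R` (e.g. a separable extension of the residue field of `R`), `Ω[S⁄R]` finite,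
`ϖ : R` with image `u * π ^ e`, `e` invertible in `S`.  Then `π ^ (e - 1)` kills `Ω[S⁄R]`
(`pow_smul_kaehler`), and every derivation `δ : R → S` times `π ^ (e - 1)` extends to a derivation
`S → S`, if `Frac S` is formally étale over `R` (`exists_derivation`).
-/

open IsLocalRing KaehlerDifferential TensorProduct

namespace K953.Ram

/-- `Ω[S⁄R]` is generated by `dπ`. -/
theorem span_D_eq_top {R S : Type*} [CommRing R] [CommRing S] [Algebra R S] [IsLocalRing S]
    [Algebra.FormallyUnramified R (ResidueField S)] [Module.Finite S Ω[S⁄R]] (π : S)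
    (hπ : maximalIdeal S = Ideal.span {π}) :
    Submodule.span S {D R S π} = ⊤ := by
  rw [eq_top_iff]
  refine Submodule.le_of_le_smul_of_le_jacobson_bot (I := maximalIdeal S)
    (Module.Finite.fg_top) (by rw [IsLocalRing.jacobson_eq_maximalIdeal ⊥ bot_ne_top]) ?_
  rw [← KaehlerDifferential.span_range_derivation, Submodule.span_le]
  rintro _ ⟨s, rfl⟩
  rw [KaehlerDifferential.span_range_derivation]
  obtain ⟨x, hx⟩ := (KaehlerDifferential.exact_kerCotangentToTensor_mapBaseChange R S
    (ResidueField S) Ideal.Quotient.mk_surjective ((1 : ResidueField S) ⊗ₜ[S] D R S s)).mp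
    (Subsingleton.elim _ _)
  obtain ⟨⟨y, hy⟩, rfl⟩ := Ideal.toCotangent_surjective _ x
  rw [KaehlerDifferential.kerCotangentToTensor_toCotangent] at hx
  have hy' : y ∈ maximalIdeal S := by
    rw [RingHom.mem_ker] at hy
    exact (residue_eq_zero_iff y).1 hy
  have h1 : D R S s - D R S y ∈ (maximalIdeal S • (⊤ : Submodule S Ω[S⁄R])) := by
    have h2 : (1 : S ⧸ maximalIdeal S) ⊗ₜ[S] (D R S s - D R S y) = 0 := by
      rw [TensorProduct.tmul_sub, sub_eq_zero]
      exact hx.symm
    have h3 := congrArg (TensorProduct.quotTensorEquivQuotSMul Ω[S⁄R] (maximalIdeal S)) h2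
    rw [map_zero, ← map_one (Ideal.Quotient.mk (maximalIdeal S)),
      TensorProduct.quotTensorEquivQuotSMul_mk_tmul, one_smul] at h3
    exact (Submodule.Quotient.mk_eq_zero _).1 h3
  rw [hπ, Ideal.mem_span_singleton] at hy'
  obtain ⟨a, rfl⟩ := hy'
  have h4 : D R S s = a • D R S π + (π • D R S a + (D R S s - D R S (π * a))) := by
    rw [Derivation.leibniz]; abel
  rw [h4]
  refine Submodule.add_mem_sup (Submodule.smul_mem _ _ (Submodule.mem_span_singleton_self _))
    (Submodule.add_mem _ (Submodule.smul_mem_smul ?_ trivial) h1)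
  rw [hπ]
  exact Ideal.mem_span_singleton_self π

/-- `π ^ (e - 1)` kills `Ω[S⁄R]`. -/
theorem pow_smul_kaehler {R S : Type*} [CommRing R] [CommRing S] [Algebra R S] [IsLocalRing S]
    [Algebra.FormallyUnramified R (ResidueField S)] [Module.Finite S Ω[S⁄R]] (π : S)
    (hπ : maximalIdeal S = Ideal.span {π}) (ϖ : R) (u : S) (hu : IsUnit u) (e : ℕ)
    (h : algebraMap R S ϖ = u * π ^ e) (he : IsUnit (e : S)) (x : Ω[S⁄R]) :
    π ^ (e - 1) • x = 0 := by
  have hx : x ∈ Submodule.span S {D R S π} := by rw [span_D_eq_top π hπ]; trivial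
  have hux : D R S u ∈ Submodule.span S {D R S π} := by rw [span_D_eq_top π hπ]; trivial
  obtain ⟨b, hb⟩ := Submodule.mem_span_singleton.1 hux
  obtain ⟨a, rfl⟩ := Submodule.mem_span_singleton.1 hx
  have he0 : e ≠ 0 := by
    rintro rfl
    simp at he
  have h0 : D R S (u * π ^ e) = 0 := by rw [← h, Derivation.map_algebraMap]
  have hunit : IsUnit (u * (e : S) + π * b) := by
    by_contra hc
    have hc' : u * (e : S) + π * b ∈ maximalIdeal S := hc
    have h5 : π * b ∈ maximalIdeal S := by
      refine Ideal.mul_mem_right _ _ ?_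
      rw [hπ]; exact Ideal.mem_span_singleton_self π
    have h6 : u * (e : S) ∈ maximalIdeal S := by
      have := (maximalIdeal S).sub_mem hc' h5
      simpa using this
    exact h6 (hu.mul he)
  have h7 : (u * (e : S) + π * b) • (π ^ (e - 1) • D R S π) = 0 := by
    rw [Derivation.leibniz, Derivation.leibniz_pow, ← hb] at h0
    rw [← h0]
    have h8 : π ^ e = π ^ (e - 1) * π := by
      rw [← pow_succ, Nat.sub_add_cancel (Nat.one_le_iff_ne_zero.2 he0)]
    rw [h8, ← Nat.cast_smul_eq_nsmul S e]
    simp only [smul_smul, ← add_smul]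
    congr 1
    ring
  obtain ⟨v, hv⟩ := hunit
  rw [← hv] at h7
  have h9 : π ^ (e - 1) • D R S π = 0 := by
    have := congrArg (fun z => ((v⁻¹ : Sˣ) : S) • z) h7
    simpa [smul_smul] using this
  rw [smul_comm, h9, smul_zero]

/-- If `c` kills `Ω[S⁄R]`, `S ⊆ L` and `L` is formally étale over `R`, then `c • δ` extends to a
derivation of `S`, for every derivation `δ : R → S`. -/
theorem exists_derivation_of_smul {k R S L : Type*} [CommRing k] [CommRing R] [CommRing S]
    [CommRing L] [Algebra k R] [Algebra k S] [Algebra R S] [IsScalarTower k R S]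
    [Algebra S L] [Algebra R L] [Algebra k L] [IsScalarTower R S L] [IsScalarTower k S L]
    [IsScalarTower k R L] [Algebra.FormallyEtale R L]
    (hinj : Function.Injective (algebraMap S L)) (c : S) (hc : ∀ x : Ω[S⁄R], c • x = 0)
    (δ : Derivation k R S) :
    ∃ d : Derivation k S S, ∀ a : R, d (algebraMap R S a) = c * δ a := by
  -- the derivation of `L`
  let δL : Derivation k R L := ((Algebra.linearMap S L).restrictScalars R).compDer δ
  have hδL (a : R) : δL a = algebraMap S L (δ a) := rfl
  let ℓ : L ⊗[R] Ω[R⁄k] →ₗ[L] L := LinearMap.liftBaseChange L δL.liftKaehlerDifferential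
  let DL : Derivation k L L :=
    (ℓ ∘ₗ (KaehlerDifferential.tensorKaehlerEquivOfFormallyEtale k R L).symm.toLinearMap).compDer
      (KaehlerDifferential.D k L)
  have hDL (a : R) : DL (algebraMap R L a) = algebraMap S L (δ a) := by
    change ℓ ((KaehlerDifferential.tensorKaehlerEquivOfFormallyEtale k R L).symm
      (KaehlerDifferential.D k L (algebraMap R L a))) = _
    rw [KaehlerDifferential.tensorKaehlerEquivOfFormallyEtale_symm_D_algebraMap]
    simp only [ℓ, LinearMap.liftBaseChange_tmul, one_smul,
      Derivation.liftKaehlerDifferential_comp_D]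
    rfl
  let Λ : Ω[S⁄k] →ₗ[S] L := (DL.compAlgebraMap S).liftKaehlerDifferential
  have hΛ (s : S) : Λ (D k S s) = DL (algebraMap S L s) :=
    Derivation.liftKaehlerDifferential_comp_D _ _
  have hrange (y : S ⊗[R] Ω[R⁄k]) : Λ (mapBaseChange k R S y) ∈
      LinearMap.range (Algebra.linearMap S L) := by
    induction y using TensorProduct.induction_on with
    | zero => simp
    | add x y hx hy => rw [map_add, map_add]; exact add_mem hx hy
    | tmul s ω =>
      rw [mapBaseChange_tmul, map_smul]
      refine Submodule.smul_mem _ _ ?_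
      have hω : ω ∈ Submodule.span R (Set.range (D k R)) := by
        rw [KaehlerDifferential.span_range_derivation]; trivial
      induction hω using Submodule.span_induction with
      | zero => simp
      | add x y _ _ hx hy => rw [map_add, map_add]; exact add_mem hx hy
      | mem x hx =>
        obtain ⟨a, rfl⟩ := hx
        rw [KaehlerDifferential.map_D, hΛ, ← IsScalarTower.algebraMap_apply R S L, hDL]
        exact ⟨_, rfl⟩
      | smul a x _ hx =>
        rw [map_smul, ← algebraMap_smul S a, map_smul]
        exact Submodule.smul_mem _ _ hx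
  have hmem (x : Ω[S⁄k]) : (c • Λ) x ∈ LinearMap.range (Algebra.linearMap S L) := by
    have h1 : KaehlerDifferential.map k R S S (c • x) = 0 := by
      rw [map_smul]; exact hc _
    obtain ⟨y, hy⟩ := (KaehlerDifferential.exact_mapBaseChange_map k R S _).1 h1
    have h2 := hrange y
    rw [hy, map_smul] at h2
    exact h2
  let E : S ≃ₗ[S] LinearMap.range (Algebra.linearMap S L) :=
    LinearEquiv.ofInjective (Algebra.linearMap S L) hinj
  let M : Ω[S⁄k] →ₗ[S] S := E.symm.toLinearMap ∘ₗ (c • Λ).codRestrict _ hmem
  have hM (x : Ω[S⁄k]) : algebraMap S L (M x) = c • Λ x := by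
    have h1 : E (M x) = ⟨(c • Λ) x, hmem x⟩ := by
      simp only [M, LinearMap.comp_apply, LinearEquiv.coe_coe, LinearEquiv.apply_symm_apply]
      rfl
    exact congrArg Subtype.val h1
  refine ⟨M.compDer (D k S), fun a => hinj ?_⟩
  change algebraMap S L (M (D k S (algebraMap R S a))) = _
  rw [hM, hΛ, ← IsScalarTower.algebraMap_apply R S L, hDL, map_mul, Algebra.smul_def]

/-- **(RAM)**: in a tamely ramified extension of discrete valuation rings `R → S` with ramification
index `e`, `π ^ (e - 1) δ` extends to a derivation `S → S`, for every derivation `δ : R → S`. -/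
theorem exists_derivation {k R S L : Type*} [CommRing k] [CommRing R] [CommRing S]
    [CommRing L] [Algebra k R] [Algebra k S] [Algebra R S] [IsScalarTower k R S]
    [Algebra S L] [Algebra R L] [Algebra k L] [IsScalarTower R S L] [IsScalarTower k S L]
    [IsScalarTower k R L] [Algebra.FormallyEtale R L] [IsLocalRing S]
    [Algebra.FormallyUnramified R (ResidueField S)] [Module.Finite S Ω[S⁄R]]
    (hinj : Function.Injective (algebraMap S L)) (π : S)
    (hπ : maximalIdeal S = Ideal.span {π}) (ϖ : R) (u : S) (hu : IsUnit u) (e : ℕ)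
    (h : algebraMap R S ϖ = u * π ^ e) (he : IsUnit (e : S)) (δ : Derivation k R S) :
    ∃ d : Derivation k S S, ∀ a : R, d (algebraMap R S a) = π ^ (e - 1) * δ a :=
  exists_derivation_of_smul hinj _ (pow_smul_kaehler π hπ ϖ u hu e h he) δ

/-- **(RAM)**, characteristic zero form: `R → S` local, `R ⊆ K`, `S ⊆ L`, `L / K` algebraic,
`S` essentially of finite type over `R`, residue extension algebraic, `k` a field of
characteristic zero under `R`.  No hypothesis on `e`. -/
theorem exists_derivation_charZero {k R S K L : Type*} [Field k] [CharZero k] [CommRing R]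
    [CommRing S] [Field K] [Field L] [Algebra k R] [Algebra k S] [Algebra R S]
    [IsScalarTower k R S] [Algebra R K] [IsFractionRing R K] [Algebra S L] [Algebra R L]
    [Algebra K L] [IsScalarTower R K L] [IsScalarTower R S L]
    [IsLocalRing R] [IsLocalRing S] [IsLocalHom (algebraMap R S)]
    [Algebra.IsAlgebraic K L] [Algebra.EssFiniteType R S]
    [Algebra.IsAlgebraic (ResidueField R) (ResidueField S)]
    (hinj : Function.Injective (algebraMap S L)) (π : S)
    (hπ : maximalIdeal S = Ideal.span {π}) (ϖ : R) (hϖ : ¬ IsUnit ϖ) (u : S) (hu : IsUnit u)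
    (e : ℕ) (h : algebraMap R S ϖ = u * π ^ e) (δ : Derivation k R S) :
    ∃ d : Derivation k S S, ∀ a : R, d (algebraMap R S a) = π ^ (e - 1) * δ a := by
  let _ : Algebra k L := ((algebraMap S L).comp (algebraMap k S)).toAlgebra
  have : IsScalarTower k S L := IsScalarTower.of_algebraMap_eq fun _ => rfl
  have : IsScalarTower k R L := IsScalarTower.of_algebraMap_eq fun x => by
    rw [IsScalarTower.algebraMap_apply k S L, IsScalarTower.algebraMap_apply k R S,
      ← IsScalarTower.algebraMap_apply R S L]
  let _ : Algebra k K := ((algebraMap R K).comp (algebraMap k R)).toAlgebra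
  have : CharZero K := charZero_of_injective_algebraMap (algebraMap k K).injective
  have : Algebra.FormallyEtale R K :=
    Algebra.FormallyEtale.of_isLocalization (nonZeroDivisors R)
  have : Algebra.FormallyEtale K L := Algebra.FormallyEtale.of_isSeparable K L
  have : Algebra.FormallyEtale R L := Algebra.FormallyEtale.comp R K L
  let _ : Algebra k (ResidueField R) := ((algebraMap R (ResidueField R)).comp
    (algebraMap k R)).toAlgebra
  have : CharZero (ResidueField R) :=
    charZero_of_injective_algebraMap (algebraMap k (ResidueField R)).injective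
  have : Algebra.FormallyUnramified (ResidueField R) (ResidueField S) := .of_isSeparable _ _
  have : Algebra.FormallyUnramified R (ResidueField S) :=
    Algebra.FormallyUnramified.comp R (ResidueField R) (ResidueField S)
  have he0 : e ≠ 0 := by
    rintro rfl
    rw [pow_zero, mul_one] at h
    exact hϖ (isUnit_of_map_unit (algebraMap R S) ϖ (h ▸ hu))
  have he : IsUnit (e : S) := by
    have h1 : IsUnit (e : k) := isUnit_iff_ne_zero.2 (Nat.cast_ne_zero.2 he0)
    simpa using h1.map (algebraMap k S)
  exact exists_derivation hinj π hπ ϖ u hu e h he δ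

/-- The end of (RAM): an element `P` of `Frac R` with `π ^ (e - 1) P ∈ S` lies in `R`
(`v_S(P) ≥ -(e - 1)` and `v_S(P) = e v_R(P)` give `v_R(P) ≥ 0`). -/
theorem isInteger_of_mul_pow {R S K L : Type*} [CommRing R] [IsDomain R]
    [IsDiscreteValuationRing R] [CommRing S] [IsDomain S] [Field K] [Field L] [Algebra R K]
    [IsFractionRing R K] [Algebra R S] [Algebra S L] [Algebra R L] [Algebra K L]
    [IsScalarTower R K L] [IsScalarTower R S L] (hinj : Function.Injective (algebraMap S L))
    (π : S) (hπ0 : π ≠ 0) (hπ : ¬ IsUnit π) (ϖ : R) (hϖ : Irreducible ϖ) (u : S) (e : ℕ)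
    (he : e ≠ 0) (h : algebraMap R S ϖ = u * π ^ e) (P : K)
    (hP : ∃ s : S, algebraMap S L s = algebraMap S L (π ^ (e - 1)) * algebraMap K L P) :
    ∃ a : R, algebraMap R K a = P := by
  obtain ⟨s, hs⟩ := hP
  rcases ValuationRing.isInteger_or_isInteger R P with ⟨a, ha⟩ | ⟨b, hb⟩
  · exact ⟨a, ha⟩
  · by_cases hP0 : P = 0
    · exact ⟨0, by rw [map_zero, hP0]⟩
    by_cases hbu : IsUnit b
    · obtain ⟨v, rfl⟩ := hbu
      refine ⟨((v⁻¹ : Rˣ) : R), ?_⟩
      have h1 : algebraMap R K (v : R) * P = 1 := by rw [hb, inv_mul_cancel₀ hP0]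
      have h2 : algebraMap R K ((v⁻¹ : Rˣ) : R) * algebraMap R K (v : R) = 1 := by
        rw [← map_mul, Units.inv_mul, map_one]
      calc algebraMap R K ((v⁻¹ : Rˣ) : R)
          = algebraMap R K ((v⁻¹ : Rˣ) : R) * (algebraMap R K (v : R) * P) := by
            rw [h1, mul_one]
        _ = P := by rw [← mul_assoc, h2, one_mul]
    · exfalso
      have hb1 : b ∈ maximalIdeal R := hbu
      rw [hϖ.maximalIdeal_eq, Ideal.mem_span_singleton] at hb1
      obtain ⟨c, rfl⟩ := hb1
      have h1 : algebraMap K L P * algebraMap R L (ϖ * c) = 1 := by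
        rw [IsScalarTower.algebraMap_apply R K L, hb, ← map_mul, mul_inv_cancel₀ hP0, map_one]
      have h2 : algebraMap S L (π ^ (e - 1)) = algebraMap S L (s * (u * π ^ e) *
          algebraMap R S c) := by
        rw [map_mul, map_mul, hs, ← h, ← IsScalarTower.algebraMap_apply R S L,
          ← IsScalarTower.algebraMap_apply R S L, mul_assoc, mul_assoc, ← map_mul (algebraMap R L),
          h1, mul_one]
      have h3 := hinj h2
      have h4 : π ^ e = π ^ (e - 1) * π := by
        rw [← pow_succ, Nat.sub_add_cancel (Nat.one_le_iff_ne_zero.2 he)]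
      rw [h4] at h3
      have h5 : π ^ (e - 1) * 1 = π ^ (e - 1) * (π * (s * u * algebraMap R S c)) := by
        rw [mul_one]
        exact h3.trans (by ring)
      exact hπ (IsUnit.of_mul_eq_one _ (mul_left_cancel₀ (pow_ne_zero _ hπ0) h5).symm)

end K953.Ram
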